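import Cfsg.Agent.Lib.BrauerPairs.NoTwoP
import Cfsg.Agent.Lib.Char.Complete

/-!
Products of two conjugate involutions in a group without characters of `p`-defect zero.
-/

set_option linter.unusedSectionVars false
set_option linter.style.haveILetI false

namespace Cfsg.Agent.OddCenPrimeDeg

open Cfsg Cfsg.Agent.Blocks Cfsg.Agent.Char Cfsg.Agent.BrauerPairs
open scoped ComplexConjugate

universe u

variable {G : Type u} [Group G] [Fintype G] {p : ℕ} [hp' : Fact p.Prime]

/-- A class of `p'`-centraliser has central character values in the ideal. -/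
theorem omega_mem {M : Ideal AlgInt} [M.IsPrime] (hM : IsPModular p M)
    (hno : ∀ χ : IrrCharacter G,
      (charDegree (χ : G → ℂ)).factorization p ≠ (Nat.card G).factorization p) {s : G}
    (hs : ¬ p ∣ Nat.card (Subgroup.centralizer ({s} : Set G))) (χ : IrrCharacter G) :
    MemLocalIdeal M ((∑ t ∈ classFinset s, (χ : G → ℂ) t) / (χ : G → ℂ) 1) := by
  rw [Finset.sum_congr rfl fun t ht => (show (χ : G → ℂ) t = (χ : G → ℂ) s by
    obtain ⟨d, rfl⟩ := isConj_iff.1 (mem_classFinset.1 ht)
    exact irr_conj_invariant χ _ d), Finset.sum_const, nsmul_eq_mul, card_classFinset]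
  by_contra hu
  have hB := isPBlock_blockOf (M := M) χ
  obtain ⟨g, hg⟩ := exists_defectClass hB
  have hle := classExp_le hM hB (self_mem_blockOf χ) (g := s) hu hg.2.1
  have h0 : classExp p s = 0 := Nat.factorization_eq_zero_of_not_dvd hs
  refine hno χ (le_antisymm ?_ ?_)
  · exact (Nat.factorization_le_iff_dvd (charDegree_pos χ).ne' Nat.card_pos.ne').2
      (charDegree_dvd_card χ) p
  · have h2 := degExp_ge hM hB (self_mem_blockOf χ)
    rw [blockDefect_eq_classExp hM hB hg] at h2
    omega

open scoped Classical in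
/-- The count of the members `t` of the class with `s t` conjugate to `g`. -/
theorem dvd_count (hno : ∀ χ : IrrCharacter G,
      (charDegree (χ : G → ℂ)).factorization p ≠ (Nat.card G).factorization p) {s g : G}
    (hs : ¬ p ∣ Nat.card (Subgroup.centralizer ({s} : Set G))) :
    p ∣ ((classFinset s).filter fun t => IsConj (s * t) g).card *
      Nat.card (Subgroup.centralizer ({g} : Set G)) := by
  obtain ⟨M, hM⟩ := GlaubermanMod.exists_isPModular p
  haveI := IsPModular.isPrime hM
  set T := classFinset s with hT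
  set d := Nat.card (Subgroup.centralizer ({g} : Set G)) with hd
  have hTinv : ∀ u t : G, t ∈ T → u * t * u⁻¹ ∈ T := fun u t ht =>
    mem_classFinset.2 ((mem_classFinset.1 ht).trans (isConj_iff.2 ⟨u, rfl⟩))
  have hval : ∀ t ∈ T, ∑ χ : IrrCharacter G, (χ : G → ℂ) (s * t) * conj ((χ : G → ℂ) g) =
      if IsConj (s * t) g then (d : ℂ) else 0 := by
    intro t _
    split_ifs with h
    · simp only [fun χ : IrrCharacter G => (isConj_iff_forall_irr (s * t) g).1 h χ]
      exact column_orth_of_isConj (IsConj.refl g)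
    · exact column_orth_of_not_isConj h
  have key : ((((T.filter fun t => IsConj (s * t) g).card * d : ℕ)) : ℂ) =
      ∑ χ : IrrCharacter G, conj ((χ : G → ℂ) g) * ((χ : G → ℂ) s *
        ((∑ t ∈ T, (χ : G → ℂ) t) / (χ : G → ℂ) 1)) := by
    calc ((((T.filter fun t => IsConj (s * t) g).card * d : ℕ)) : ℂ)
        = ∑ t ∈ T, ∑ χ : IrrCharacter G, (χ : G → ℂ) (s * t) * conj ((χ : G → ℂ) g) := by
          rw [Finset.sum_congr rfl hval, Finset.sum_ite, Finset.sum_const, Finset.sum_const_zero,
            add_zero, nsmul_eq_mul, Nat.cast_mul]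
      _ = _ := by
          rw [Finset.sum_comm]
          exact Finset.sum_congr rfl fun χ _ => by
            rw [← sum_mul_invariant χ T hTinv s, Finset.mul_sum]
            exact Finset.sum_congr rfl fun t _ => mul_comm _ _
  rw [← natCast_memLocalIdeal_iff hM, key]
  refine memLocalIdeal_sum _ _ fun χ _ => ?_
  rw [← irr_inv]
  exact MemLocalIdeal.mul_left (irr_memLocalRing χ _)
    (MemLocalIdeal.mul_left (irr_memLocalRing χ s) (omega_mem hM hno hs χ))

/-- No element with `p'`-centraliser is a product of two conjugates of `s` in one way only up to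
its centraliser. -/
theorem false_of_unique_factor (hno : ∀ χ : IrrCharacter G,
      (charDegree (χ : G → ℂ)).factorization p ≠ (Nat.card G).factorization p) {s v : G}
    (hv : IsConj s v)
    (hs : ¬ p ∣ Nat.card (Subgroup.centralizer ({s} : Set G)))
    (hg : ¬ p ∣ Nat.card (Subgroup.centralizer ({s * v} : Set G)))
    (hone : ∀ a b : G, IsConj s a → IsConj s b → a * b = s * v →
      ∃ c ∈ Subgroup.centralizer ({s * v} : Set G), c * a * c⁻¹ = s) : False := by
  classical
  have hp := hp'.out
  set W := (classFinset s).filter fun t => IsConj (s * t) (s * v) with hW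
  have hvW : v ∈ W := Finset.mem_filter.2 ⟨mem_classFinset.2 hv, IsConj.refl _⟩
  set C := Subgroup.centralizer ({s} : Set G) with hC
  have horb : ∀ t : G, t ∈ W ↔ ∃ c : C, (c : G) * v * (c : G)⁻¹ = t := by
    intro t
    constructor
    · intro ht
      obtain ⟨ht1, ht2⟩ := Finset.mem_filter.1 ht
      obtain ⟨h, hh⟩ := isConj_iff.1 ht2
      have hts : IsConj s t := mem_classFinset.1 ht1
      have he : (h * s * h⁻¹) * (h * t * h⁻¹) = s * v := by rw [← hh]; group
      obtain ⟨c, hc, hce⟩ := hone _ _ (isConj_iff.2 ⟨h, rfl⟩)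
        (hts.trans (isConj_iff.2 ⟨h, rfl⟩)) he
      have hch : (c * h) * s * (c * h)⁻¹ = s := by
        calc (c * h) * s * (c * h)⁻¹ = c * (h * s * h⁻¹) * c⁻¹ := by group
          _ = s := hce
      have hmem : (c * h)⁻¹ ∈ C := by
        refine inv_mem (Subgroup.mem_centralizer_singleton_iff.2 ?_)
        exact mul_inv_eq_iff_eq_mul.1 hch
      have h2 : (c * h) * (s * t) * (c * h)⁻¹ = s * v := by
        calc (c * h) * (s * t) * (c * h)⁻¹ = c * (h * (s * t) * h⁻¹) * c⁻¹ := by group
          _ = c * (s * v) * c⁻¹ := by rw [hh]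
          _ = s * v := mul_inv_eq_iff_eq_mul.2 (Subgroup.mem_centralizer_singleton_iff.1 hc)
      refine ⟨⟨_, hmem⟩, ?_⟩
      show (c * h)⁻¹ * v * (c * h)⁻¹⁻¹ = t
      have h3 : (c * h) * t * (c * h)⁻¹ = v := by
        refine mul_left_cancel (a := s) ?_
        calc s * ((c * h) * t * (c * h)⁻¹)
            = (c * h) * s * (c * h)⁻¹ * ((c * h) * t * (c * h)⁻¹) := by rw [hch]
          _ = (c * h) * (s * t) * (c * h)⁻¹ := by group
          _ = s * v := h2
      rw [← h3]; group
    · rintro ⟨c, rfl⟩
      refine Finset.mem_filter.2 ⟨mem_classFinset.2 (hv.trans (isConj_iff.2 ⟨c, rfl⟩)), ?_⟩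
      refine (isConj_iff.2 ⟨(c : G), ?_⟩).symm
      have h1 : (c : G) * s = s * c := Subgroup.mem_centralizer_singleton_iff.1 c.2
      calc (c : G) * (s * v) * (c : G)⁻¹ = ((c : G) * s) * v * (c : G)⁻¹ := by group
        _ = s * ((c : G) * v * (c : G)⁻¹) := by rw [h1]; group
  have hcard : W.card ∣ Nat.card C := by
    have h1 : MulAction.orbit ↥(C.map (ConjAct.toConjAct (G := G)).toMonoidHom) v = (W : Set G) := by
      ext t
      rw [Finset.mem_coe, horb, MulAction.mem_orbit_iff]
      constructor
      · rintro ⟨⟨_, c, hc, rfl⟩, h⟩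
        refine ⟨⟨c, hc⟩, ?_⟩
        exact h
      · rintro ⟨c, h⟩
        refine ⟨⟨_, c, c.2, rfl⟩, ?_⟩
        exact h
    rw [← Set.ncard_coe_finset, ← h1, ← MulAction.index_stabilizer,
      Nat.card_congr (C.equivMapOfInjective (ConjAct.toConjAct (G := G)).toMonoidHom
        (ConjAct.toConjAct (G := G)).injective).toEquiv]
    exact Subgroup.index_dvd_card _
  rcases hp.dvd_mul.1 (dvd_count hno (g := s * v) hs) with h | h
  · exact hs (h.trans hcard)
  · exact hg h

end Cfsg.Agent.OddCenPrimeDeg
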