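import Cfsg.Agent.Lib.OddCenPrimeDeg.Count
import Cfsg.Agent.Lib.OddChar.OddTheorem
import Cfsg.Agent.Lib.BrauerSuzuki.ZStar
import Cfsg.Agent.S4744
import Mathlib.GroupTheory.GroupAction.Blocks

/-!
A faithful transitive group of prime power degree without characters of defect zero and without
elements of order `2p`: every point is fixed by a unique involution.
-/

set_option linter.unusedSectionVars false
set_option linter.style.haveILetI false

namespace Cfsg.Agent.OddCenPrimeDeg

open Cfsg Cfsg.Agent.Blocks Cfsg.Agent.Char Cfsg.Agent.BrauerPairs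

universe u v

variable {G : Type u} [Group G] [Fintype G] {Ω : Type v} [MulAction G Ω] [FaithfulSMul G Ω]
  [Finite Ω] {p : ℕ} [hp' : Fact p.Prime]

/-- The hypotheses. -/
structure Hyp (G : Type u) [Group G] (Ω : Type v) [MulAction G Ω] (p : ℕ) : Prop where
  odd : p ≠ 2
  trans : MulAction.IsPretransitive G Ω
  deg : ∃ r : ℕ, 1 ≤ r ∧ Nat.card Ω = p ^ r
  h2p : ∀ g : G, orderOf g ≠ 2 * p
  comm : ∀ P : Sylow p G, ∀ a ∈ (P : Subgroup G), ∀ b ∈ (P : Subgroup G), a * b = b * a
  conj : ∀ s t : G, orderOf s = 2 → orderOf t = 2 → IsConj s t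
  norm : ∀ s : G, orderOf s = 2 →
    ∃ P : Sylow p G, s ∈ Subgroup.normalizer ((P : Subgroup G) : Set G)

namespace Hyp

/-- Sylow subgroups are transitive. -/
theorem sylow_trans (h : Hyp G Ω p) (P : Sylow p G) (x y : Ω) :
    ∃ g ∈ (P : Subgroup G), g • x = y := by
  haveI := h.trans
  haveI : Nonempty Ω := ⟨x⟩
  obtain ⟨r, hr, hΩ⟩ := h.deg
  suffices hu : MulAction.orbit (P : Subgroup G) x = Set.univ by
    obtain ⟨g, hg⟩ := (hu ▸ Set.mem_univ y : y ∈ MulAction.orbit (P : Subgroup G) x)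
    exact ⟨g, g.2, hg⟩
  refine Set.eq_of_subset_of_ncard_le (Set.subset_univ _) ?_ Set.finite_univ
  rw [Set.ncard_univ, hΩ, ← MulAction.index_stabilizer]
  set S := MulAction.stabilizer (P : Subgroup G) x with hS
  obtain ⟨i, hi⟩ := IsPGroup.iff_card.1 (P.isPGroup'.to_subgroup S)
  have hdvd : p ^ i ∣ Nat.card (MulAction.stabilizer G x) := by
    rw [← hi, Nat.card_congr (S.equivMapOfInjective _ (P : Subgroup G).subtype_injective).toEquiv]
    refine Subgroup.card_dvd_of_le ?_
    rintro _ ⟨g, hg, rfl⟩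
    exact hg
  have hG : Nat.card (MulAction.stabilizer G x) * p ^ r = Nat.card G := by
    rw [← hΩ, ← MulAction.index_stabilizer_of_transitive (G := G) x, Subgroup.card_mul_index]
  have hle : i + r ≤ (Nat.card G).factorization p := by
    refine (hp'.out.pow_dvd_iff_le_factorization Nat.card_pos.ne').1 ?_
    rw [pow_add, ← hG]
    exact Nat.mul_dvd_mul_right hdvd _
  have hP := Subgroup.card_mul_index S
  rw [hi, P.card_eq_multiplicity] at hP
  refine Nat.le_of_mul_le_mul_left ?_ (pow_pos hp'.out.pos i)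
  rw [hP, ← pow_add]
  exact Nat.pow_le_pow_right hp'.out.pos hle

/-- Sylow subgroups are semiregular. -/
theorem sylow_free (h : Hyp G Ω p) (P : Sylow p G) {g : G} (hg : g ∈ (P : Subgroup G)) {x : Ω}
    (hx : g • x = x) : g = 1 := by
  refine eq_of_smul_eq_smul (α := Ω) fun y => ?_
  obtain ⟨q, hq, rfl⟩ := h.sylow_trans P x y
  rw [one_smul, ← mul_smul, h.comm P g hg q hq, mul_smul, hx]

/-- Sylow subgroups are their own centralisers. -/
theorem mem_sylow (h : Hyp G Ω p) (P : Sylow p G) {c : G} (x : Ω)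
    (hc : ∀ a ∈ (P : Subgroup G), a * c = c * a) : c ∈ (P : Subgroup G) := by
  obtain ⟨q, hq, hqx⟩ := h.sylow_trans P x (c • x)
  suffices he : c = q from he ▸ hq
  refine eq_of_smul_eq_smul (α := Ω) fun y => ?_
  obtain ⟨a, ha, rfl⟩ := h.sylow_trans P x y
  rw [← mul_smul, ← hc a ha, mul_smul, ← hqx, ← mul_smul, ← mul_smul, h.comm P a ha q hq]

/-- An involution has at most one fixed point. -/
theorem fix_unique (h : Hyp G Ω p) {u : G} (hu : orderOf u = 2) {x y : Ω} (hx : u • x = x)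
    (hy : u • y = y) : x = y := by
  obtain ⟨P, hP⟩ := h.norm u hu
  obtain ⟨a, ha, rfl⟩ := h.sylow_trans P x y
  have hinv := (inverts_of_mem_normalizer h.odd h.h2p hu P.isPGroup' hP).1 a ha
  have h1 : a⁻¹ • x = a • x := by
    rw [← hinv, mul_smul, mul_smul, inv_smul_eq_iff.2 hx.symm, hy]
  have h2 : (a * a) • x = x := by rw [mul_smul, ← h1, smul_inv_smul]
  have h3 := h.sylow_free P (mul_mem ha ha) h2
  obtain ⟨k, hk⟩ := IsPGroup.iff_orderOf.1 P.isPGroup' ⟨a, ha⟩
  rw [Subgroup.orderOf_mk] at hk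
  have hd : orderOf a ∣ 2 := orderOf_dvd_of_pow_eq_one (by rw [sq, h3])
  rcases (Nat.dvd_prime Nat.prime_two).1 hd with h4 | h4
  · rw [orderOf_eq_one_iff.1 h4, one_smul]
  · rw [hk] at h4
    rcases Nat.eq_zero_or_pos k with rfl | hk0
    · simp at h4
    · exact absurd ((Nat.prime_dvd_prime_iff_eq hp'.out Nat.prime_two).1
        (h4 ▸ dvd_pow_self p hk0.ne')) h.odd

/-- An involution has a fixed point. -/
theorem exists_fix (h : Hyp G Ω p) {u : G} (hu : orderOf u = 2) : ∃ x : Ω, u • x = x := by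
  classical
  haveI : Fintype Ω := Fintype.ofFinite Ω
  obtain ⟨r, hr, hΩ⟩ := h.deg
  have hodd : ¬ 2 ∣ Fintype.card Ω := by
    rw [← Nat.card_eq_fintype_card, hΩ]
    exact fun hd => h.odd
      ((Nat.prime_dvd_prime_iff_eq Nat.prime_two hp'.out).1 (Nat.prime_two.dvd_of_dvd_pow hd)).symm
  haveI : Fact (Nat.Prime 2) := ⟨Nat.prime_two⟩
  obtain ⟨x, hx⟩ := Equiv.Perm.exists_fixed_point_of_prime (p := 2) (n := 1) hodd
    (σ := MulAction.toPerm u) (Equiv.ext fun y => by
      simp only [pow_one, sq, Equiv.Perm.mul_apply, MulAction.toPerm_apply, Equiv.Perm.one_apply]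
      rw [← mul_smul, ← sq, ← hu, pow_orderOf_eq_one, one_smul])
  exact ⟨x, hx⟩

/-- Involutions with different fixed points have product of odd order. -/
theorem odd_mul (h : Hyp G Ω p) {u w : G} (hu : orderOf u = 2) (hw : orderOf w = 2) {x y : Ω}
    (hx : u • x = x) (hy : w • y = y) (hxy : x ≠ y) : Odd (orderOf (u * w)) := by
  rw [← Nat.not_even_iff_odd]
  rintro ⟨k, hk⟩
  have hk0 : 0 < k := by have := orderOf_pos (u * w); omega
  obtain ⟨z, hzd⟩ : ∃ z, z = (u * w) ^ k := ⟨_, rfl⟩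
  have hz : orderOf z = 2 := by
    rw [hzd, orderOf_pow' _ hk0.ne', hk, ← two_mul, Nat.gcd_mul_left_left,
      Nat.mul_div_cancel _ hk0]
  have hzz : z⁻¹ = z := inv_eq_of_mul_eq_one_right (by rw [← sq, ← hz, pow_orderOf_eq_one])
  have huu : u⁻¹ = u := inv_eq_of_mul_eq_one_right (by rw [← sq, ← hu, pow_orderOf_eq_one])
  have hww : w⁻¹ = w := inv_eq_of_mul_eq_one_right (by rw [← sq, ← hw, pow_orderOf_eq_one])
  have hcw : Commute z (u * w) := hzd ▸ (Commute.refl (u * w)).pow_left k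
  have hcu : Commute z u := by
    have h1 : u * z * u⁻¹ = z := by
      have h0 : u * (u * w) * u⁻¹ = (u * w)⁻¹ := by
        rw [mul_inv_rev, huu, hww, ← mul_assoc, ← sq, ← hu, pow_orderOf_eq_one, one_mul]
      conv_rhs => rw [← hzz, hzd, ← inv_pow]
      rw [hzd, ← conj_pow, h0]
    exact (mul_inv_eq_iff_eq_mul.1 h1).symm
  have hcw' : Commute z w := by
    have h1 := hcu.mul_right hcw
    rwa [← mul_assoc, ← sq, ← hu, pow_orderOf_eq_one, one_mul] at h1
  have fix : ∀ {a : G} {q : Ω}, orderOf a = 2 → Commute z a → a • q = q → z • q = q :=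
    fun {a q} ha hc hq => h.fix_unique ha
      (by rw [← mul_smul, ← hc.eq, mul_smul, hq]) hq
  exact hxy (h.fix_unique hz (fix hu hcu hx) (fix hw hcw' hy))

/-- A subgroup of odd order containing a Sylow subgroup normalises it. -/
theorem le_normalizer (h : Hyp G Ω p) (P : Sylow p G) {K : Subgroup G} (hK : Odd (Nat.card K))
    (hPK : (P : Subgroup G) ≤ K) : K ≤ Subgroup.normalizer ((P : Subgroup G) : Set G) := by
  obtain ⟨r, hr, hΩ⟩ := h.deg
  haveI : Group.IsSolvable K := Cfsg.Agent.OddChar.oddSolvable K hK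
  haveI htK : MulAction.IsPretransitive K Ω := ⟨fun x y => by
    obtain ⟨g, hg, hgx⟩ := h.sylow_trans P x y
    exact ⟨⟨g, hPK hg⟩, hgx⟩⟩
  have hcore : pPrimeCore p K = ⊥ := by
    rw [Subgroup.eq_bot_iff_forall]
    intro m hm
    haveI : (pPrimeCore p K).Normal := Cfsg.Agent.FittingCores.pPrimeCore_normal p
    refine Subtype.ext (eq_of_smul_eq_smul (α := Ω) fun x => ?_)
    have hB := MulAction.IsBlock.orbit_of_normal (N := pPrimeCore p K) x
    have h1 : Set.ncard (MulAction.orbit (pPrimeCore p K) x) ∣ p ^ r :=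
      hΩ ▸ Dvd.intro _ (hB.ncard_block_mul_ncard_orbit_eq ⟨x, MulAction.mem_orbit_self x⟩)
    have h2 : Set.ncard (MulAction.orbit (pPrimeCore p K) x) ∣ Nat.card (pPrimeCore p K) := by
      rw [← MulAction.index_stabilizer]
      exact Subgroup.index_dvd_card _
    have h3 := Nat.eq_one_of_dvd_coprimes
      ((Cfsg.Agent.FittingCores.pPrimeCore_coprime (G := K) p).pow_right r) h2 h1
    obtain ⟨z, hz⟩ := Set.ncard_eq_one.1 h3
    have e1 : m • x = z := by
      have : m • x ∈ MulAction.orbit (pPrimeCore p K) x := ⟨⟨m, hm⟩, rfl⟩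
      rwa [hz] at this
    have e2 : x = z := by
      have := MulAction.mem_orbit_self (M := pPrimeCore p K) x
      rwa [hz] at this
    show (m : G) • x = (1 : G) • x
    rw [one_smul]
    exact e1.trans e2.symm
  set S : Sylow p K := P.subtype hPK with hS
  have hle : pCore p K ≤ (S : Subgroup K) := Cfsg.Agent.FittingCores.pCore_le_sylow S
  have hge : (S : Subgroup K) ≤ pCore p K := fun a ha =>
    Cfsg.Agent.FittingCores.centralizer_pCore_le hp'.out hcore
      (Subgroup.mem_centralizer_iff.2 fun b hb =>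
        Subtype.ext (h.comm P b (hle hb) a ha))
  haveI hn : ((S : Subgroup K)).Normal :=
    le_antisymm hge hle ▸ Cfsg.Agent.FittingCores.pCore_normal p
  exact (Subgroup.normal_subgroupOf_iff_le_normalizer hPK).1 hn

/-- A normalising involution normalises the Sylow subgroup of a normalised subgroup of odd order. -/
theorem mem_normalizer (h : Hyp G Ω p) (P : Sylow p G) {K : Subgroup G} (hK : Odd (Nat.card K))
    (hPK : (P : Subgroup G) ≤ K) {g : G} (hg : g ∈ Subgroup.normalizer (K : Set G)) :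
    g ∈ Subgroup.normalizer ((P : Subgroup G) : Set G) := by
  have hQK : ((g • P : Sylow p G) : Subgroup G) ≤ K := by
    rw [Sylow.coe_subgroup_smul]
    rintro _ ⟨a, ha, rfl⟩
    exact (Subgroup.mem_normalizer_iff.1 hg a).1 (hPK ha)
  have h1 := h.le_normalizer P hK hPK
  refine Sylow.smul_eq_iff_mem_normalizer.1 (Sylow.ext ?_)
  have hp2 : IsPGroup p (((g • P : Sylow p G) : Subgroup G) ⊔ (P : Subgroup G) : Subgroup G) :=
    (g • P).isPGroup'.to_sup_of_normal_right' P.isPGroup' (hQK.trans h1)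
  have e1 := (g • P).is_maximal' hp2 le_sup_left
  have e2 := P.is_maximal' hp2 le_sup_right
  exact e1.symm.trans e2

/-- Two involutions moving a point to the same place have the same fixed point. -/
theorem same_centre (h : Hyp G Ω p)
    (hno : ∀ χ : IrrCharacter G,
      (charDegree (χ : G → ℂ)).factorization p ≠ (Nat.card G).factorization p)
    {u v : G} (hu : orderOf u = 2) (hv : orderOf v = 2) {a e f : Ω} (hue : u • e = e)
    (hvf : v • f = f) (hab : u • a = v • a) (hne : u • a ≠ a) : e = f := by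
  by_contra hef
  have huu : u * u = 1 := by rw [← sq, ← hu, pow_orderOf_eq_one]
  have hvv : v * v = 1 := by rw [← sq, ← hv, pow_orderOf_eq_one]
  have hui : u⁻¹ = u := inv_eq_of_mul_eq_one_right huu
  have hvi : v⁻¹ = v := inv_eq_of_mul_eq_one_right hvv
  obtain ⟨k, hk⟩ : ∃ k, k = u * v := ⟨_, rfl⟩
  have hko : Odd (orderOf k) := hk ▸ h.odd_mul hu hv hue hvf hef
  have hka : k • a = a := by rw [hk, mul_smul, ← hab, ← mul_smul, huu, one_smul]
  have hk1 : k ≠ 1 := by
    intro e1
    rw [hk] at e1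
    have : u = v := by rw [← hvi]; exact eq_inv_of_mul_eq_one_left e1
    subst this
    exact hef (h.fix_unique hu hue hvf)
  have huk : u * k * u⁻¹ = k⁻¹ := by
    rw [hk, hui, mul_inv_rev, hui, hvi, ← mul_assoc, huu, one_mul]
  have hvk : v * k * v⁻¹ = k⁻¹ := by
    rw [hk, hvi, mul_inv_rev, hui, hvi, mul_assoc v, mul_assoc u, hvv, mul_one]
  set C := Subgroup.centralizer ({k} : Set G) with hC
  -- no involution commutes with `k`
  have hsq : k * k ≠ 1 := fun e1 => hk1 (by
    obtain ⟨i, hi⟩ := hko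
    have h2 := pow_orderOf_eq_one k
    rwa [hi, pow_succ, pow_mul, sq, e1, one_pow, one_mul] at h2)
  have hCodd : Odd (Nat.card C) := by
    haveI : Fact (Nat.Prime 2) := ⟨Nat.prime_two⟩
    rw [← Nat.not_even_iff_odd, even_iff_two_dvd]
    intro hd
    obtain ⟨w, hw⟩ := exists_prime_orderOf_dvd_card' 2 hd
    have hwo : orderOf (w : G) = 2 := by rw [Subgroup.orderOf_coe, hw]
    obtain ⟨c, hc⟩ := h.exists_fix hwo
    have hwk : (w : G) * k * (w : G)⁻¹ = k :=
      mul_inv_eq_iff_eq_mul.2 (Subgroup.mem_centralizer_singleton_iff.1 w.2)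
    obtain ⟨s, q, hs, hq, hqc, hsk⟩ : ∃ (s : G) (q : Ω), orderOf s = 2 ∧ s • q = q ∧ q ≠ c ∧
        s * k * s⁻¹ = k⁻¹ := by
      by_cases hec : e = c
      · exact ⟨v, f, hv, hvf, fun hfc => hef (hec.trans hfc.symm), hvk⟩
      · exact ⟨u, e, hu, hue, hec, huk⟩
    obtain ⟨i, hi⟩ := h.odd_mul hs hwo hq hc hqc
    obtain ⟨A, hA⟩ : ∃ A, A = s * (w : G) := ⟨_, rfl⟩
    rw [← hA] at hi
    have hAk : A * k * A⁻¹ = k⁻¹ := by
      calc A * k * A⁻¹ = s * ((w : G) * k * (w : G)⁻¹) * s⁻¹ := by rw [hA]; group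
        _ = k⁻¹ := by rw [hwk, hsk]
    have hA2 : Commute (A * A) k := mul_inv_eq_iff_eq_mul.1 (by
      calc (A * A) * k * (A * A)⁻¹ = A * (A * k * A⁻¹) * A⁻¹ := by group
        _ = A * k⁻¹ * A⁻¹ := by rw [hAk]
        _ = k := by rw [← conj_inv, hAk, inv_inv])
    have h1 := pow_orderOf_eq_one A
    rw [hi, pow_succ, pow_mul, sq] at h1
    have h2 : k⁻¹ = k := by
      have h3 : (A * A) ^ i = A⁻¹ := eq_inv_of_mul_eq_one_left h1
      have h4 := (hA2.pow_left i).eq
      rw [h3] at h4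
      calc k⁻¹ = A * k * A⁻¹ := hAk.symm
        _ = A * (A⁻¹ * k) := by rw [h4, mul_assoc]
        _ = k := mul_inv_cancel_left A k
    exact hsq (inv_eq_iff_mul_eq_one.1 h2)
  -- nor any element of order `p`
  have hCu : ∀ c ∈ C, u * c * u⁻¹ ∈ C := by
    intro c hc
    rw [Subgroup.mem_centralizer_singleton_iff] at hc ⊢
    have h1 : Commute c k⁻¹ := Commute.inv_right hc
    calc u * c * u⁻¹ * k = u * c * (u⁻¹ * k * u) * u⁻¹ := by group
      _ = u * (c * k⁻¹) * u⁻¹ := by rw [hui, show u * k * u = k⁻¹ by rwa [hui] at huk]; group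
      _ = u * (k⁻¹ * c) * u⁻¹ := by rw [h1.eq]
      _ = (u * k⁻¹ * u⁻¹) * (u * c * u⁻¹) := by group
      _ = k * (u * c * u⁻¹) := by rw [← conj_inv, huk, inv_inv]
  have hCp : ¬ p ∣ Nat.card C := by
    intro hpd
    obtain ⟨S, hS⟩ := Cfsg.Agent.S4744.exists_invariant_sylow (p := p) C hCodd huu hCu
    set Y := (S : Subgroup C).map C.subtype with hY
    have hYp : IsPGroup p Y := S.isPGroup'.map _
    have hYne : Y ≠ ⊥ := by
      rw [hY, Ne, Subgroup.map_eq_bot_iff_of_injective _ C.subtype_injective]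
      exact S.ne_bot_of_dvd_card hpd
    set K := Subgroup.centralizer (Y : Set G) with hK
    have hKodd : Odd (Nat.card K) := odd_card_centralizer h.odd h.h2p hYp hYne
    obtain ⟨P, hP⟩ := hYp.exists_le_sylow
    have hPK : (P : Subgroup G) ≤ K := fun b hb =>
      Subgroup.mem_centralizer_iff.2 fun y hy => h.comm P y (hP hy) b hb
    have hkK : k ∈ K := Subgroup.mem_centralizer_iff.2 fun y hy => by
      obtain ⟨c, -, rfl⟩ := hy
      exact Subgroup.mem_centralizer_singleton_iff.1 c.2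
    have huK : u ∈ Subgroup.normalizer (K : Set G) := by
      have h1 : ∀ n ∈ K, u * n * u⁻¹ ∈ K := fun n hn => Subgroup.mem_centralizer_iff.2 fun y hy => by
        have h2 := Subgroup.mem_centralizer_iff.1 hn _ (hS y hy)
        calc y * (u * n * u⁻¹) = u * ((u * y * u⁻¹) * n) * u⁻¹ := by
              simp only [hui, ← mul_assoc, huu, one_mul]
          _ = u * (n * (u * y * u⁻¹)) * u⁻¹ := by rw [h2]
          _ = u * n * u⁻¹ * y := by simp only [hui, mul_assoc, huu, mul_one]
      refine Subgroup.mem_normalizer_iff.2 fun n => ⟨h1 n, fun hn => ?_⟩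
      have h3 := h1 _ hn
      rwa [show u * (u * n * u⁻¹) * u⁻¹ = n by
        simp only [hui, ← mul_assoc, huu, one_mul]; simp only [mul_assoc, huu, mul_one]] at h3
    have hkN := h.le_normalizer P hKodd hPK hkK
    have huN := h.mem_normalizer P hKodd hPK huK
    have hinv := (inverts_of_mem_normalizer h.odd h.h2p hu P.isPGroup' huN).1
    have hkk : k * k ∈ (P : Subgroup G) := by
      refine h.mem_sylow P a fun b hb => ?_
      have hf : k * b * k⁻¹ ∈ (P : Subgroup G) := (Subgroup.mem_normalizer_iff.1 hkN b).1 hb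
      have h4 := hinv _ hf
      rw [← conj_mul, ← conj_mul, ← conj_inv, huk, hinv b hb, inv_inv, mul_inv_rev, mul_inv_rev,
        inv_inv] at h4
      calc b * (k * k) = k * (k⁻¹ * b⁻¹ * k)⁻¹ * k := by group
        _ = k * (k * b⁻¹ * k⁻¹)⁻¹ * k := by rw [h4]; group
        _ = k * k * b := by group
    exact hsq (h.sylow_free P hkk (x := a) (by rw [mul_smul, hka, hka]))
  -- counting
  have hCs : ¬ p ∣ Nat.card (Subgroup.centralizer ({u} : Set G)) := by
    intro hpd
    obtain ⟨y, hy⟩ := exists_prime_orderOf_dvd_card' p hpd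
    have hyo : orderOf (y : G) = p := by rw [Subgroup.orderOf_coe, hy]
    have h1 := eq_one_of_commute_involution h.odd h.h2p hu (y := (y : G)) ⟨1, by rw [hyo, pow_one]⟩
      (Subgroup.mem_centralizer_singleton_iff.1 y.2).symm
    rw [h1, orderOf_one] at hyo
    exact hp'.out.one_lt.ne hyo
  refine false_of_unique_factor hno (h.conj u v hu hv) hCs (hk ▸ hCp) fun a' b' ha' hb' hab' => ?_
  have ho : ∀ t : G, IsConj u t → t * t = 1 := fun t ht => by
    obtain ⟨d, rfl⟩ := isConj_iff.1 ht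
    rw [show d * u * d⁻¹ * (d * u * d⁻¹) = d * (u * u) * d⁻¹ by group, huu, mul_one, mul_inv_cancel]
  have haa := ho a' ha'
  have hai : a'⁻¹ = a' := inv_eq_of_mul_eq_one_right haa
  rw [← hk] at hab' ⊢
  have hak : a' * k * a'⁻¹ = k⁻¹ := by
    rw [← hab', mul_inv_rev, hai, inv_eq_of_mul_eq_one_right (ho b' hb'), ← mul_assoc, haa, one_mul]
  have hm : a' * u ∈ C := by
    rw [hC, Subgroup.mem_centralizer_singleton_iff]
    refine mul_inv_eq_iff_eq_mul.1 ?_
    rw [mul_inv_rev, show a' * u * k * (u⁻¹ * a'⁻¹) = a' * (u * k * u⁻¹) * a'⁻¹ by group, huk,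
      ← conj_inv, hak, inv_inv]
  obtain ⟨c, hc, hce⟩ := isConj_of_odd_mul haa huu
    (hCodd.of_dvd_nat (Subgroup.orderOf_dvd_natCard C hm))
  exact ⟨c, Subgroup.zpowers_le.2 hm hc, hce⟩

/-- Every point is fixed by exactly one involution. -/
theorem invol_unique (h : Hyp G Ω p)
    (hno : ∀ χ : IrrCharacter G,
      (charDegree (χ : G → ℂ)).factorization p ≠ (Nat.card G).factorization p)
    {u v : G} (hu : orderOf u = 2) (hv : orderOf v = 2) {e : Ω} (hue : u • e = e)
    (hve : v • e = e) : u = v := by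
  classical
  haveI := h.trans
  have hex : ∀ q : Ω, ∃ w : G, orderOf w = 2 ∧ w • q = q := fun q => by
    obtain ⟨g, rfl⟩ := MulAction.exists_smul_eq G e q
    exact ⟨g * u * g⁻¹, ((MulAut.conj g).orderOf_eq u).trans hu,
      by rw [mul_smul, mul_smul, inv_smul_smul, hue]⟩
  choose w hw hwq using hex
  suffices H : ∀ {t : G}, orderOf t = 2 → t • e = e → ∀ x : Ω, t • x = w e • x by
    exact eq_of_smul_eq_smul (α := Ω) fun x => (H hu hue x).trans (H hv hve x).symm
  intro t ht hte x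
  by_cases hx : x = e
  · rw [hx, hte, hwq]
  have hmv : ∀ q : {q : Ω // q ≠ x}, w q • x ∈ {y : Ω | y ≠ x} :=
    fun q hq => q.2 (h.fix_unique (hw q) (hwq q) hq)
  let F : {q : Ω // q ≠ x} → {q : Ω // q ≠ x} := fun q => ⟨w q • x, hmv q⟩
  have hF : Function.Injective F := fun q q' hqq => Subtype.ext
    (h.same_centre hno (hw q) (hw q') (hwq q) (hwq q') (congrArg Subtype.val hqq) (hmv q))
  have htx : t • x ≠ x := fun h1 => hx (h.fix_unique ht h1 hte)
  obtain ⟨q, hq⟩ := Finite.injective_iff_surjective.1 hF ⟨t • x, htx⟩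
  have hq' : w q • x = t • x := congrArg Subtype.val hq
  have hqe : (q : Ω) = e := h.same_centre hno (hw q) ht (hwq q) hte hq' (hmv q)
  rw [← hq', hqe]

/-- The involutions are isolated. -/
theorem isolated (h : Hyp G Ω p)
    (hno : ∀ χ : IrrCharacter G,
      (charDegree (χ : G → ℂ)).factorization p ≠ (Nat.card G).factorization p)
    {u : G} (hu : orderOf u = 2) : IsIsolated u := by
  intro g hg
  have hw : orderOf (g * u * g⁻¹) = 2 := ((MulAut.conj g).orderOf_eq u).trans hu
  obtain ⟨x, hx⟩ := h.exists_fix hu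
  refine h.invol_unique hno hw hu ?_ hx
  exact h.fix_unique hu (by rw [← mul_smul, hg.eq, mul_smul, hx]) hx

/-- Sylow subgroups are normal. -/
theorem sylow_normal (h : Hyp G Ω p)
    (hno : ∀ χ : IrrCharacter G,
      (charDegree (χ : G → ℂ)).factorization p ≠ (Nat.card G).factorization p)
    {u : G} (hu : orderOf u = 2) (P : Sylow p G) : (P : Subgroup G).Normal := by
  haveI := h.trans
  haveI : Fact (Nat.Prime 2) := ⟨Nat.prime_two⟩
  obtain ⟨x, hx⟩ := h.exists_fix hu
  obtain ⟨r, hr, hΩ⟩ := h.deg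
  set N := pPrimeCore 2 G with hN
  haveI hNn : N.Normal := Cfsg.Agent.FittingCores.pPrimeCore_normal 2
  have hodd : Odd (Nat.card N) := Nat.coprime_two_right.1
    (Cfsg.Agent.FittingCores.pPrimeCore_coprime (G := G) 2)
  have hZ := Cfsg.Agent.BrauerSuzuki.zStar G u hu (h.isolated hno hu)
  have htr : ∀ y : Ω, ∃ n ∈ N, n • x = y := fun y => by
    obtain ⟨g, rfl⟩ := MulAction.exists_smul_eq G x y
    have huu : u * u = 1 := by rw [← sq, ← hu, pow_orderOf_eq_one]
    have hw : orderOf (g * u * g⁻¹) = 2 := ((MulAut.conj g).orderOf_eq u).trans hu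
    have hn : g * u * g⁻¹ * u ∈ N := by
      have h1 := hZ g
      rwa [inv_eq_of_mul_eq_one_right huu] at h1
    obtain ⟨c, hc, hce⟩ := isConj_of_odd_mul
      (by rw [← sq, ← hw, pow_orderOf_eq_one]) huu
      (hodd.of_dvd_nat (Subgroup.orderOf_dvd_natCard N hn))
    refine ⟨c⁻¹, inv_mem (Subgroup.zpowers_le.2 hn hc), h.fix_unique hw ?_ ?_⟩
    · calc (g * u * g⁻¹) • c⁻¹ • x = c⁻¹ • (c * (g * u * g⁻¹) * c⁻¹) • x := by
            rw [← mul_smul, ← mul_smul]; congr 1; group
        _ = c⁻¹ • x := by rw [hce, hx]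
    · rw [← mul_smul, show g * u * g⁻¹ * g = g * u by group, mul_smul, hx]
  have hPN : (P : Subgroup G) ≤ N := by
    have hcard : p ^ r ∣ Nat.card N := by
      have h1 : MulAction.orbit N x = Set.univ := Set.eq_univ_of_forall fun y => by
        obtain ⟨n, hn, hny⟩ := htr y
        exact ⟨⟨n, hn⟩, hny⟩
      have h2 := (MulAction.stabilizer N x).index_dvd_card
      rwa [MulAction.index_stabilizer, h1, Set.ncard_univ, hΩ] at h2
    obtain ⟨j, hj⟩ : ∃ j, Nat.card (P : Subgroup G) = p ^ j := ⟨_, P.card_eq_multiplicity⟩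
    have hPr : Nat.card (P : Subgroup G) = p ^ r := by
      rw [← hΩ]
      refine Nat.card_eq_of_bijective (fun g : (P : Subgroup G) => (g : G) • x) ⟨?_, fun y => ?_⟩
      · intro a b hab
        refine Subtype.ext (inv_mul_eq_one.1 ?_)
        refine h.sylow_free P (mul_mem (inv_mem a.2) b.2) (x := x) ?_
        rw [mul_smul]
        exact inv_smul_eq_iff.2 hab.symm
      · obtain ⟨g, hg, hgx⟩ := h.sylow_trans P x y
        exact ⟨⟨g, hg⟩, hgx⟩
    have hcop : ¬ p ∣ N.index := fun hd => by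
      have h3 : p ^ r * p ∣ Nat.card G := by
        rw [← N.card_mul_index]
        exact Nat.mul_dvd_mul hcard hd
      rw [← pow_succ, hp'.out.pow_dvd_iff_le_factorization Nat.card_pos.ne'] at h3
      have h4 := P.card_eq_multiplicity
      rw [hPr] at h4
      have := Nat.pow_right_injective hp'.out.two_le h4
      omega
    intro g hg
    obtain ⟨k, hk⟩ := IsPGroup.iff_orderOf.1 P.isPGroup' ⟨g, hg⟩
    rw [Subgroup.orderOf_mk] at hk
    rw [← QuotientGroup.eq_one_iff, ← orderOf_eq_one_iff]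
    refine Nat.eq_one_of_dvd_coprimes ((hp'.out.coprime_iff_not_dvd.2 hcop).pow_left k)
      (hk ▸ orderOf_map_dvd (QuotientGroup.mk' N) g) ?_
    rw [Subgroup.index]
    exact orderOf_dvd_natCard _
  refine ⟨fun n hn g => ?_⟩
  refine (Subgroup.mem_normalizer_iff.1 (h.mem_normalizer P hodd hPN ?_) n).1 hn
  rw [Subgroup.normalizer_eq_top]
  trivial

end Hyp

end Cfsg.Agent.OddCenPrimeDeg
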